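import Cfsg.Agent.MonsterX.ThLet
import Cfsg.Agent.MonsterX.ThSegE1
import Cfsg.Agent.MonsterX.ThSegE2

/-!
# The Thompson group in the Monster model: relators 5
-/

set_option autoImplicit false
set_option maxRecDepth 100000

namespace Cfsg.Agent.MonsterX.ThRelE

open Cfsg.Agent.Monster.VecEngine Cfsg.Agent.MonsterX.ProgBase Cfsg.Agent.MonsterX.InstData
open Cfsg.Agent.MonsterX.Space Cfsg.Agent.MonsterX.BaseVec Cfsg.Agent.MonsterX.ThLet
open Cfsg.Agent.MonsterX.WordSub Cfsg.Agent.MonsterX.WordRels Cfsg.Agent.MonsterX.WordsCodeM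

theorem word_eq : S.word (.pow (.mul (.g .a) (.g .b)) 3) =
    ThSegE1.w ++ (ThSegE2.w) := by rfl

theorem r5 {K₀ : Type} [Group K₀] (P : Pack K₀) :
    Wt (S.word (.pow (.mul (.g .a) (.g .b)) 3)) = 1 := by
  rw [word_eq]
  apply eq_one_of P
  have e_ThSegE1 := step ThSegE1.seg
  have e_ThSegE2 := step ThSegE2.seg
  simp only [isW.app, LinearEquiv.mul_apply]
  rw [e_ThSegE1, e_ThSegE2]

end Cfsg.Agent.MonsterX.ThRelE
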