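import Cfsg.Agent.MonsterX.ThLet
import Cfsg.Agent.MonsterX.ThSegB
import Cfsg.Agent.MonsterX.ThSegH

/-!
# The Thompson group in the Monster model: relators 9
-/

set_option autoImplicit false
set_option maxRecDepth 100000

namespace Cfsg.Agent.MonsterX.ThRelH

open Cfsg.Agent.Monster.VecEngine Cfsg.Agent.MonsterX.ProgBase Cfsg.Agent.MonsterX.InstData
open Cfsg.Agent.MonsterX.Space Cfsg.Agent.MonsterX.BaseVec Cfsg.Agent.MonsterX.ThLet
open Cfsg.Agent.MonsterX.WordSub Cfsg.Agent.MonsterX.WordRels Cfsg.Agent.MonsterX.WordsCodeM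

/-- the first letters -/
def a : List Lt :=
  [.e]

/-- the rest -/
def v : List Lt :=
  [.tau, .d3, .xi, .d2, .xi, .d1, .xi, .d0, .tau, .d3, .xi, .d2, .xi, .d1, .xi, .d0, .c, .tai, .e, .tau, .d3, .xi, .d2, .xi, .d1, .xi, .d0, .tau, .d3, .xi, .d2, .xi, .d1, .xi, .d0, .c, .tai]

theorem word_eq : S.word (.pow (.mul (.g .b) (.g .e)) 2) = a ++ v := by rfl

theorem rot_eq : v ++ a = ThSegB.w ++ (ThSegH.w) := by rfl

theorem rot {K₀ : Type} [Group K₀] (P : Pack K₀) : Wt (v ++ a) = 1 := by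
  rw [rot_eq]
  apply eq_one_of P
  have e_ThSegB := step ThSegB.seg
  have e_ThSegH := step ThSegH.seg
  simp only [isW.app, LinearEquiv.mul_apply]
  rw [e_ThSegB, e_ThSegH]

theorem r9 {K₀ : Type} [Group K₀] (P : Pack K₀) :
    Wt (S.word (.pow (.mul (.g .b) (.g .e)) 2)) = 1 := by
  have h := rot P
  rw [isW.app] at h
  rw [word_eq, isW.app, eq_inv_of_mul_eq_one_left h]
  exact mul_inv_cancel _

end Cfsg.Agent.MonsterX.ThRelH
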