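import Cfsg.Agent.MonsterX.ThLet
import Cfsg.Agent.MonsterX.ThSegL1
import Cfsg.Agent.MonsterX.ThSegL2
import Cfsg.Agent.MonsterX.ThSegL3

/-!
# The Thompson group in the Monster model: relators 32
-/

set_option autoImplicit false
set_option maxRecDepth 100000

namespace Cfsg.Agent.MonsterX.ThRelL

open Cfsg.Agent.Monster.VecEngine Cfsg.Agent.MonsterX.ProgBase Cfsg.Agent.MonsterX.InstData
open Cfsg.Agent.MonsterX.Space Cfsg.Agent.MonsterX.BaseVec Cfsg.Agent.MonsterX.ThLet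
open Cfsg.Agent.MonsterX.WordSub Cfsg.Agent.MonsterX.WordRels Cfsg.Agent.MonsterX.WordsCodeM

theorem word_eq : S.word (.mul (.mul (.mul (.mul (.inv (.g .u)) (.inv (.mul (.mul (.inv (.g .b)) (.mul (.g .a) (.g .c))) (.g .b)))) (.g .u)) (.mul (.mul (.inv (.g .b)) (.mul (.g .a) (.g .c))) (.g .b))) (.inv (.g .e))) =
    ThSegL1.w ++ (ThSegL2.w ++ (ThSegL3.w)) := by rfl

theorem r32 {K₀ : Type} [Group K₀] (P : Pack K₀) :
    Wt (S.word (.mul (.mul (.mul (.mul (.inv (.g .u)) (.inv (.mul (.mul (.inv (.g .b)) (.mul (.g .a) (.g .c))) (.g .b)))) (.g .u)) (.mul (.mul (.inv (.g .b)) (.mul (.g .a) (.g .c))) (.g .b))) (.inv (.g .e)))) = 1 := by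
  rw [word_eq]
  apply eq_one_of P
  have e_ThSegL1 := step ThSegL1.seg
  have e_ThSegL2 := step ThSegL2.seg
  have e_ThSegL3 := step ThSegL3.seg
  simp only [isW.app, LinearEquiv.mul_apply]
  rw [e_ThSegL1, e_ThSegL2, e_ThSegL3]

end Cfsg.Agent.MonsterX.ThRelL
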