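import Cfsg.Agent.MonsterX.ThLet
import Cfsg.Agent.MonsterX.ThSegM1a
import Cfsg.Agent.MonsterX.ThSegM1b
import Cfsg.Agent.MonsterX.ThSegM1
import Cfsg.Agent.MonsterX.ThSegM2a
import Cfsg.Agent.MonsterX.ThSegM2b
import Cfsg.Agent.MonsterX.ThSegM2
import Cfsg.Agent.MonsterX.ThSegM3a
import Cfsg.Agent.MonsterX.ThSegM3b
import Cfsg.Agent.MonsterX.ThSegM3
import Cfsg.Agent.MonsterX.ThSegM4a
import Cfsg.Agent.MonsterX.ThSegM4b
import Cfsg.Agent.MonsterX.ThSegM4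

/-!
# The Thompson group in the Monster model: relator 13
-/

set_option autoImplicit false
set_option maxRecDepth 100000

namespace Cfsg.Agent.MonsterX.ThRelM

open Cfsg.Agent.Monster.VecEngine Cfsg.Agent.MonsterX.ProgBase Cfsg.Agent.MonsterX.InstData
open Cfsg.Agent.MonsterX.Space Cfsg.Agent.MonsterX.BaseVec Cfsg.Agent.MonsterX.ThLet
open Cfsg.Agent.MonsterX.WordSub Cfsg.Agent.MonsterX.WordRels Cfsg.Agent.MonsterX.WordsCodeM

theorem word_eq : S.word (.pow (.mul (.mul (.mul (.g .b) (.g .c)) (.g .d)) (.g .e)) 8) =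
    ThSegM1a.w ++ (ThSegM1b.w ++ (ThSegM1.w ++ (ThSegM2a.w ++ (ThSegM2b.w ++ (ThSegM2.w ++ 
    (ThSegM3a.w ++ (ThSegM3b.w ++ (ThSegM3.w ++ (ThSegM4a.w ++ (ThSegM4b.w ++ ThSegM4.w)))))))))) := by rfl

theorem r13 {K₀ : Type} [Group K₀] (P : Pack K₀) :
    Wt (S.word (.pow (.mul (.mul (.mul (.g .b) (.g .c)) (.g .d)) (.g .e)) 8)) = 1 := by
  rw [word_eq]
  apply eq_one_of P
  have e_ThSegM1a := step ThSegM1a.seg
  have e_ThSegM1b := step ThSegM1b.seg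
  have e_ThSegM1 := step ThSegM1.seg
  have e_ThSegM2a := step ThSegM2a.seg
  have e_ThSegM2b := step ThSegM2b.seg
  have e_ThSegM2 := step ThSegM2.seg
  have e_ThSegM3a := step ThSegM3a.seg
  have e_ThSegM3b := step ThSegM3b.seg
  have e_ThSegM3 := step ThSegM3.seg
  have e_ThSegM4a := step ThSegM4a.seg
  have e_ThSegM4b := step ThSegM4b.seg
  have e_ThSegM4 := step ThSegM4.seg
  simp only [isW.app, LinearEquiv.mul_apply]
  rw [e_ThSegM1a, e_ThSegM1b, e_ThSegM1, e_ThSegM2a, e_ThSegM2b, e_ThSegM2,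
    e_ThSegM3a, e_ThSegM3b, e_ThSegM3, e_ThSegM4a, e_ThSegM4b, e_ThSegM4]

end Cfsg.Agent.MonsterX.ThRelM
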